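import Cfsg.Agent.CosetCert.Pack

/-! Generated: the facts of the log. -/

namespace Cfsg.Agent.Fi23Mult.W28

open Cfsg.Agent.CosetCert

def factStore : Store := (.node 1 (.leaf 0x10001600016000001400016050001500015040001500015020001500015000001500015060001400014050001400014020001400014010001100014060001300013050001200013030001300013020001300013010001300013060001200012040001200012030001200012020001200012010001200012060001100011050001100011020000e00011000001100011060001000010050000f00010030001000010020001000010060000f0000f040000f0000f030000f0000f020000f0000f060000e0000e050000e0000e030000e0000e010000e0000e000000e0000e060000d0000d050000c0000d030000d0000d000000d0000d060000c0000c040000c0000c030000c0000c000000c0000c060000b0000b050000a0000b010000b0000b000000b0000b060000a0000a040000a0000a010000a0000a000000a0000a050000800009040000900009020000900009010000900009000000900009040000600008020000800008010000800008000000800008040000700007030000700007020000700007010000700007000000700007050000600006030000600006020000600006010000600006000000600006030000500005020000500005010000500005000000500005050000400004020000400004010000400004000000400004060000300003050000300003040000300003010000300003000000300003060000200002050000200002040000200002030000200002000000200002060000100001050000100001040000100001030000100001020000100001060000000000050000000000040000000000030000000000020000000000010000000000060001b00017020001a0001703000190001606000180001503000170001404000160001303000150001104000140001000000130001000000120000f04000110000d01000100000d010000f0000c040000e0000b020000d0000b020000c0000a030000b00009030000a00008060000900007060000800005050000700005060000600004040000500004030000400003020000300002010000200001000000100000)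 (.leaf 0x6000190001a020001b00019000001a0001b050001b0001b040001b0001b030001b0001b01000180001b050001a0001a040001a0001a030001a0001a010001a0001a050001900019040001900019010001900019000001700019050001800018040001800018030001800018020001800018000001800018050001700017040001700017010001500017060001600016050001600016020001600016))

end Cfsg.Agent.Fi23Mult.W28
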