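import Cfsg.Agent.CosetCert.Pack

/-! Generated: the table. -/

namespace Cfsg.Agent.Fi23Mult.W28

open Cfsg.Agent.CosetCert

def edgeStore : Store := (.node 1 (.leaf 0xd80001200000230000f00000d60001100000d40001100000210000d00000280001500000d20000e00000ed0001400000d00001100000ce0001000000cc0000f00000260001400000ca0001000000c800010000001f0000d00000240001300000c60000f00000cd0001000000c40000f00000c20000f00000c00000f000001d0000c00000220001200000be0000e00000bc0000e000001b0000b00000ba0000e00000d30001100000b80000e00000b60000e00000b40000d00000b20000c00000200001100000b00000d00000190000b000001e0001000000ae0000d00000ac0000c00000b30000d00000aa0000c00000a80000c00000170000a000001c0000f00000a60000c00000a40000b00000a20000a000001a0000e00000150000900000180000d00000a00000b000009e0000b000009c0000a00000a30000b000009a0000a00000130000800000160000c00000980000a00000960000a00000110000700000940000800000920000900000140000b000009000009000008e00009000008c00009000000f00005000009500009000008a0000600000120000a000008800008000008600008000008400008000001000009000000d00005000008200007000008000007000007e00007000007c00007000007a00007000000b00004000007800006000008b00008000007600006000007400006000007200006000007000006000000e00008000000c00007000000900004000006e00005000006c00005000006a00005000006800005000000a00006000006600004000000800005000000700003000006400004000006200004000006000004000005e00003000005c00003000005a00003000000600004000000500002000005800003000005600003000005400002000005200002000005000002000004e00002000000400003000000300001000004c00002000004a00001000004800001000004600001000004400001000004200001000000200002000000100000000004000000000003e00000000003c00000000003a00000000003800000000003600000000000000001)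 (.leaf 0x3500017000012c0001b000012a0001b00001280001b000013100019000012600018000012e0001a00001320001900001240001a00001220001a00001200001a000003300017000011e0001a000012f0001b00001330001a000011c00019000011a0001900000310001600001300001b000011800019000011600017000002f00015000011400018000011200018000011000018000010e0001800001270001b000010c0001800000340001b000010a00017000010800017000002d0001400000320001a000010600015000011700019000010400016000010200016000002b0001300000300001900001000001600000fe0001600000fc00014000002e0001800000fa0001500000f80001500000290001100000f60001500001070001700000f40001500000f20001400000f000014000002700010000002c0001700000ee0001400000ec0001100000fd0001600000ea0001300000e800012000002a0001600000e60001300000e40001300000e20001300000250001000000e00001200000e90001300000de0001200000dc0001200000da00012))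

def repStore : Store := (.leaf 0x1b00000000001a00000000001900000000001800000000001700000000001600000000001500000000001400000000001300000000001200000000001100000000001000000000000f00000000000e00000000000d00000000000c00000000000b00000000000a000000000009000000000008000000000007000000000006000000000005000000000004000000000003000000000002000000000001000000000000)

def treeStore : Store := (.leaf 0x2e60000000002e20000000002c30000000002a60000000002830000000002640000000002230000000002040000000002000000000001e00000000001a40000000001a10000000001810000000001640000000001620000000001420000000001230000000001030000000000e60000000000a60000000000a5000000000086000000000084000000000063000000000042000000000021000000000000000000000000)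

end Cfsg.Agent.Fi23Mult.W28
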